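import Cfsg.Agent.H37.HT.Fd
import Cfsg.Agent.H234.HT.Diag
import Mathlib.GroupTheory.Sylow

/-!
# S4933, part (O), box O.rep: eigenvalues of a projective representation (helper483)
-/

set_option autoImplicit false

open Subgroup Polynomial

namespace Cfsg.Agent.H483.HT

open Cfsg Cfsg.Agent.H37.HT

universe u v

/-- uniqueness of the lift of a `p`-element through a central `p'`-kernel -/
theorem lift_unique {p : ℕ} [hp : Fact p.Prime] {S : Type u} {T : Type v} [Group S] [Group T] [Finite T]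
    (π : T →* S) (hk : ∀ z ∈ π.ker, ∀ x : T, z * x = x * z) (hkp : ¬ p ∣ Nat.card π.ker)
    {t t' : T} (ht : IsP p t) (ht' : IsP p t') (h : π t = π t') : t = t' := by
  obtain ⟨i, hi⟩ := ht
  obtain ⟨j, hj⟩ := ht'
  have hz : t * t'⁻¹ ∈ π.ker := by rw [MonoidHom.mem_ker, map_mul, map_inv, h, mul_inv_cancel]
  have hc : Commute (t * t'⁻¹) t' := hk _ hz t'
  have e1 : t = (t * t'⁻¹) * t' := by group
  have h1 : (t * t'⁻¹) ^ p ^ (i + j) = 1 := by
    have h2 : t ^ p ^ (i + j) = 1 := by rw [pow_add, pow_mul, hi, one_pow]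
    have h3 : t' ^ p ^ (i + j) = 1 := by rw [pow_add, mul_comm (p ^ i), pow_mul, hj, one_pow]
    rw [e1, hc.mul_pow, h3, mul_one] at h2
    exact h2
  have h4 : orderOf (t * t'⁻¹) ∣ p ^ (i + j) := orderOf_dvd_of_pow_eq_one h1
  have h5 : orderOf (t * t'⁻¹) ∣ Nat.card π.ker := by
    have := orderOf_dvd_natCard (⟨t * t'⁻¹, hz⟩ : π.ker)
    rwa [← Subgroup.orderOf_coe] at this
  have hcop : Nat.Coprime (p ^ (i + j)) (Nat.card π.ker) :=
    Nat.Coprime.pow_left _ ((Nat.Prime.coprime_iff_not_dvd hp.out).2 hkp)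
  have h6 : orderOf (t * t'⁻¹) = 1 := Nat.dvd_one.1 (hcop ▸ Nat.dvd_gcd h4 h5)
  exact mul_inv_eq_one.1 (orderOf_eq_one_iff.1 h6)

theorem cp_conj {K : Type v} [Field K] {n : ℕ} (a b : (Matrix (Fin n) (Fin n) K)ˣ) :
    ((a * b * a⁻¹ : (Matrix (Fin n) (Fin n) K)ˣ) : Matrix (Fin n) (Fin n) K).charpoly =
      (b : Matrix (Fin n) (Fin n) K).charpoly := by
  rw [Units.val_mul, Units.val_mul, Matrix.charpoly_mul_comm, ← mul_assoc, Units.inv_mul, one_mul]

/-- **BOX O.rep** -/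
theorem exists_lin {p : ℕ} [Fact p.Prime] {S : Type u} {T : Type v} [Group S] [Finite S] [Group T] [Finite T]
    (hab : AbSyl p S) (π : T →* S) (hπ : Function.Surjective π) (hk : ∀ z ∈ π.ker, ∀ x : T, z * x = x * z)
    (hkp : ¬ p ∣ Nat.card π.ker) {K : Type v} [Field K] [IsAlgClosed K] (hpK : (p : K) ≠ 0) {n : ℕ}
    (ρ : T →* (Matrix (Fin n) (Fin n) K)ˣ) :
    ∃ E : S → Multiset K, (∀ t : T, IsP p t → E (π t) = ((ρ t : Matrix (Fin n) (Fin n) K).charpoly).roots) ∧
      (∀ x : S, IsP p x → ∃ t : T, IsP p t ∧ π t = x) ∧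
      (∀ g x : S, IsP p x → E (g * x * g⁻¹) = E x) ∧
      (∀ P : Sylow p S, ∃ l : Fin n → ((P : Subgroup S) →* Kˣ),
        ∀ x : (P : Subgroup S), E x = (Finset.univ : Finset (Fin n)).val.map fun i => (l i x : K)) := by
  classical
  let E : S → Multiset K := fun x => if h : ∃ t : T, IsP p t ∧ π t = x then
    ((ρ h.choose : Matrix (Fin n) (Fin n) K).charpoly).roots else 0
  have hE : ∀ t : T, IsP p t → E (π t) = ((ρ t : Matrix (Fin n) (Fin n) K).charpoly).roots := by
    intro t ht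
    have h : ∃ t' : T, IsP p t' ∧ π t' = π t := ⟨t, ht, rfl⟩
    have h1 : h.choose = t := lift_unique π hk hkp h.choose_spec.1 ht h.choose_spec.2
    simp only [E, dif_pos h, h1]
  -- sections over the Sylow subgroups
  have hsec : ∀ P : Sylow p S, ∃ σ : (P : Subgroup S) →* T, (∀ x, π (σ x) = x) ∧ ∀ x, IsP p (σ x) := by
    intro P
    obtain ⟨Q, rfl⟩ := Sylow.mapSurjective_surjective hπ p P
    have hQ : ∀ t : (Q : Subgroup T), IsP p (t : T) := by
      intro t
      obtain ⟨k, hk'⟩ := Q.2 t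
      exact ⟨k, by simpa using congrArg Subtype.val hk'⟩
    let f : (Q : Subgroup T) →* ((Q : Subgroup T).map π) := π.subgroupMap Q
    have hf : Function.Bijective f := by
      refine ⟨fun a b hab' => ?_, π.subgroupMap_surjective Q⟩
      exact Subtype.ext (lift_unique π hk hkp (hQ a) (hQ b) (congrArg Subtype.val hab'))
    let e : (Q : Subgroup T) ≃* ((Q : Subgroup T).map π) := MulEquiv.ofBijective f hf
    refine ⟨(Q : Subgroup T).subtype.comp e.symm.toMonoidHom, fun x => ?_, fun x => hQ _⟩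
    have := congrArg Subtype.val (e.apply_symm_apply x)
    exact this
  refine ⟨E, hE, ?_, ?_, ?_⟩
  · intro x hx
    have hx' : IsPGroup p (zpowers x) := by
      obtain ⟨k, hk'⟩ := hx
      rintro ⟨y, m, rfl⟩
      exact ⟨k, Subtype.ext (by
        show (x ^ m) ^ p ^ k = 1
        rw [← zpow_natCast, ← zpow_mul, mul_comm, zpow_mul, zpow_natCast, hk', one_zpow])⟩
    obtain ⟨P, hP⟩ := hx'.exists_le_sylow
    obtain ⟨σ, h1, h2⟩ := hsec P
    exact ⟨σ ⟨x, hP (mem_zpowers x)⟩, h2 _, h1 _⟩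
  · intro g x hx
    have hex : ∃ t : T, IsP p t ∧ π t = x := by
      have hx' : IsPGroup p (zpowers x) := by
        obtain ⟨k, hk'⟩ := hx
        rintro ⟨y, m, rfl⟩
        exact ⟨k, Subtype.ext (by
          show (x ^ m) ^ p ^ k = 1
          rw [← zpow_natCast, ← zpow_mul, mul_comm, zpow_mul, zpow_natCast, hk', one_zpow])⟩
      obtain ⟨P, hP⟩ := hx'.exists_le_sylow
      obtain ⟨σ, h1, h2⟩ := hsec P
      exact ⟨σ ⟨x, hP (mem_zpowers x)⟩, h2 _, h1 _⟩
    obtain ⟨t, ht, rfl⟩ := hex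
    obtain ⟨g, rfl⟩ := hπ g
    have h1 : π g * π t * (π g)⁻¹ = π (g * t * g⁻¹) := by rw [map_mul, map_mul, map_inv]
    have h2 : IsP p (g * t * g⁻¹) := by
      obtain ⟨k, hk'⟩ := ht
      exact ⟨k, by rw [conj_pow, hk', mul_one, mul_inv_cancel]⟩
    rw [h1, hE _ h2, hE _ ht]
    rw [map_mul, map_mul, map_inv, cp_conj]
  · intro P
    obtain ⟨σ, h1, h2⟩ := hsec P
    let τ : (P : Subgroup S) →* Matrix (Fin n) (Fin n) K := (Units.coeHom _).comp (ρ.comp σ)
    have hc : ∀ x y, τ x * τ y = τ y * τ x := by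
      intro x y
      rw [← map_mul, ← map_mul]
      congr 1
      exact Subtype.ext (hab P x x.2 y y.2)
    have hN : ((Nat.card (P : Subgroup S) : ℕ) : K) ≠ 0 := by
      obtain ⟨k, hk'⟩ := IsPGroup.iff_card.1 P.2
      rw [hk', Nat.cast_pow]
      exact pow_ne_zero _ hpK
    obtain ⟨κ, hκ, χ, h⟩ := Cfsg.Agent.H234.HT.exists_charpoly τ hc hN (fun x => pow_card_eq_one')
    have hcard : Fintype.card κ = n := by
      have h3 := congrArg Polynomial.natDegree (h 1)
      rw [Matrix.charpoly_natDegree_eq_dim, Fintype.card_fin, Polynomial.natDegree_finset_prod_X_sub_C_eq_card,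
        Finset.card_univ] at h3
      exact h3.symm
    let e : Fin n ≃ κ := (finCongr hcard.symm).trans (Fintype.equivFin κ).symm
    refine ⟨fun i => χ (e i), fun x => ?_⟩
    have h3 : ((ρ (σ x) : Matrix (Fin n) (Fin n) K)).charpoly = ∏ j, (X - C ((χ j x : Kˣ) : K)) := h x
    have h4 : E (π (σ x)) = _ := hE _ (h2 x)
    rw [h1, h3] at h4
    rw [h4]
    have h5 : (∏ j, (X - C ((χ j x : Kˣ) : K))) = ((Finset.univ.val.map fun j => ((χ j x : Kˣ) : K)).map
        fun a => X - C a).prod := by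
      rw [Multiset.map_map]; rfl
    rw [h5, Polynomial.roots_multiset_prod_X_sub_C]
    rw [← Finset.map_univ_equiv e, Finset.map_val, Multiset.map_map]
    rfl

end Cfsg.Agent.H483.HT
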